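import Groth.Agent.ReflEmbed.Maps
import Groth.Agent.CAlgMisc2.TorsionFree
import Groth.Agent.OmegaLib.StalkCompat
import Groth.Agent.Coherent.CohOps
import Groth.Agent.CycLib28.K0.Families
import Groth.Agent.SerreDual.VanishingDepth
import Groth.Agent.Clifford24.StalkBasis
import Groth.Agent.PicLib.FormalGen
import Mathlib

/-!
# Embedding a reflexive coherent module in a sum of twists with torsion free cokernel
-/

set_option autoImplicit false
set_option linter.style.haveILetI false
set_option backward.isDefEq.respectTransparency false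
set_option backward.isDefEq.respectTransparency.types false
set_option maxHeartbeats 1000000

universe u

open CategoryTheory CategoryTheory.Limits AlgebraicGeometry Opposite TopologicalSpace
open Groth.Agent.Coherent Groth.Agent.PicLib Groth.Agent.AmpleLib

namespace Groth.Agent.ReflEmbed

variable {X : Scheme.{u}} {E N : X.Modules} {r : ℕ}

theorem stalkMapₗ_eq {A B : X.Modules} (φ : A ⟶ B) (x : X) (v : A.presheaf.stalk x) :
    RefHull.stalkMapₗ φ x v = ((DerSch.stalkFunctor X x).map φ).hom v := by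
  obtain ⟨U, hU, s, rfl⟩ := A.presheaf.exists_germ_eq v
  rw [RefHull.stalkMapₗ_germ]
  exact (DerSch.stalkFunctor_map_germ x φ U hU s).symm

/-- The morphism into the sum with the given components. -/
noncomputable def lift (φ : Fin r → (E ⟶ N)) : E ⟶ ∐ fun _ : Fin r => N :=
  ∑ i, φ i ≫ Sigma.ι (fun _ : Fin r => N) i

/-- The projection to a summand. -/
noncomputable def proj (j : Fin r) : (∐ fun _ : Fin r => N) ⟶ N :=
  Sigma.desc fun i => if i = j then 𝟙 N else 0

theorem lift_proj (φ : Fin r → (E ⟶ N)) (j : Fin r) : lift φ ≫ proj j = φ j := by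
  classical
  simp only [lift, proj, Preadditive.sum_comp, Category.assoc, Sigma.ι_desc]
  rw [Finset.sum_eq_single j (fun i _ h => by rw [if_neg h, comp_zero]) (fun h => absurd (Finset.mem_univ j) h),
    if_pos rfl, Category.comp_id]

theorem sum_proj_ι : ∑ j : Fin r, proj j ≫ Sigma.ι (fun _ : Fin r => N) j = 𝟙 _ := by
  classical
  refine Sigma.hom_ext _ _ fun i => ?_
  rw [Preadditive.comp_sum, Category.comp_id, Finset.sum_eq_single i (fun j _ h => ?_) (fun h => absurd (Finset.mem_univ i) h)]
  · simp [proj]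
  · simp [proj, Ne.symm h]

theorem stalk_eq_sum (x : X) (v : (∐ fun _ : Fin r => N).presheaf.stalk x) :
    v = ∑ j, RefHull.stalkMapₗ (Sigma.ι (fun _ : Fin r => N) j) x (RefHull.stalkMapₗ (proj j) x v) := by
  have h := congrArg (fun φ => ((DerSch.stalkFunctor X x).map φ).hom v) (sum_proj_ι (N := N) (r := r))
  simp only [Functor.map_sum, CategoryTheory.Functor.map_id, ModuleCat.hom_sum, LinearMap.coe_sum, Finset.sum_apply] at h
  refine (h.symm.trans (Finset.sum_congr rfl fun j _ => ?_) : _)
  rw [stalkMapₗ_eq, stalkMapₗ_eq, Functor.map_comp]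
  rfl

theorem stalkMap_lift_proj (φ : Fin r → (E ⟶ N)) (j : Fin r) (x : X) (e : E.presheaf.stalk x) :
    RefHull.stalkMapₗ (proj j) x (RefHull.stalkMapₗ (lift φ) x e) = RefHull.stalkMapₗ (φ j) x e := by
  rw [← LinearMap.comp_apply, ← TFPush7.stalkMap_comp, lift_proj]

theorem stalk_ext (x : X) {v w : (∐ fun _ : Fin r => N).presheaf.stalk x}
    (h : ∀ j, RefHull.stalkMapₗ (proj j) x v = RefHull.stalkMapₗ (proj j) x w) : v = w := by
  rw [stalk_eq_sum x v, stalk_eq_sum x w]
  exact Finset.sum_congr rfl fun j _ => by rw [h j]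

/-- A coordinate on the stalk of an invertible module. -/
theorem exists_coord (hN : PicF.IsInvertible N) (x : X) :
    Nonempty (N.presheaf.stalk x ≃ₗ[X.presheaf.stalk x] X.presheaf.stalk x) := by
  obtain ⟨U, hxU, g, hg⟩ := exists_isGen hN x
  exact ⟨(LinearEquiv.ofBijective (LinearMap.toSpanSingleton (X.presheaf.stalk x) _ _)
    (TFPush7.bijective_smul_germ hg hxU)).symm⟩

variable (φ : Fin r → (E ⟶ N)) (hN : PicF.IsInvertible N)
  (hφ : ∀ (x : X) (ξ : E.presheaf.stalk x →ₗ[X.presheaf.stalk x] N.presheaf.stalk x),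
    ξ ∈ Submodule.span (X.presheaf.stalk x) (Set.range fun i => RefHull.stalkMapₗ (φ i) x))

include hN hφ in
theorem injective_lift [IsIntegral X] [IsLocallyNoetherian X] (hE : Coh.IsCoh E) (x : X)
    [Module.IsTorsionFree (X.presheaf.stalk x) (E.presheaf.stalk x)] :
    Function.Injective (RefHull.stalkMapₗ (lift φ) x) := by
  obtain ⟨co⟩ := exists_coord hN x
  haveI := AssSch12.finite_stalk hE x
  refine (injective_iff_map_eq_zero _).2 fun e he => CAlgMisc2.eval_injective (R := X.presheaf.stalk x) (M := E.presheaf.stalk x) ?_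
  refine LinearMap.ext fun ψ => ?_
  rw [map_zero, LinearMap.zero_apply, Module.Dual.eval_apply]
  obtain ⟨c, hc⟩ := (Submodule.mem_span_range_iff_exists_fun _).1 (hφ x (co.symm.toLinearMap ∘ₗ ψ))
  apply co.symm.injective
  have := LinearMap.congr_fun hc e
  rw [map_zero]
  refine this.symm.trans ?_
  rw [LinearMap.coe_sum, Finset.sum_apply]
  refine Finset.sum_eq_zero fun i _ => ?_
  rw [LinearMap.smul_apply, ← stalkMap_lift_proj, he, map_zero, smul_zero]

theorem mono_lift (h : ∀ x, Function.Injective (RefHull.stalkMapₗ (lift φ) x)) : Mono (lift φ) :=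
  OmegaLib.mono_of_stalks_injective _ fun x => by
    intro a b hab
    exact h x ((stalkMapₗ_eq _ x a).trans (hab.trans (stalkMapₗ_eq _ x b).symm))

include hN hφ in
/-- For a reflexive stalk the cokernel is torsion free. -/
theorem mem_range_of_smul [IsIntegral X] [IsLocallyNoetherian X] (hE : Coh.IsCoh E) (x : X)
    [Module.IsReflexive (X.presheaf.stalk x) (E.presheaf.stalk x)] {a : X.presheaf.stalk x} (ha : a ≠ 0)
    {v : (∐ fun _ : Fin r => N).presheaf.stalk x}
    (hv : a • v ∈ LinearMap.range (RefHull.stalkMapₗ (lift φ) x)) :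
    v ∈ LinearMap.range (RefHull.stalkMapₗ (lift φ) x) := by
  obtain ⟨e, he⟩ := hv
  obtain ⟨co⟩ := exists_coord hN x
  haveI := AssSch12.finite_stalk hE x
  obtain ⟨htf, hdiv⟩ := CAlgMisc2.isReflexive_iff_divisible.1
    (inferInstance : Module.IsReflexive (X.presheaf.stalk x) (E.presheaf.stalk x))
  obtain ⟨e', rfl⟩ : ∃ e', a • e' = e := by
    refine hdiv a e ha fun ψ => ?_
    obtain ⟨c, hc⟩ := (Submodule.mem_span_range_iff_exists_fun _).1 (hφ x (co.symm.toLinearMap ∘ₗ ψ))
    refine ⟨co (∑ i, c i • RefHull.stalkMapₗ (proj i) x v), ?_⟩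
    rw [← smul_eq_mul, ← map_smul]
    apply co.symm.injective
    rw [LinearEquiv.symm_apply_apply]
    refine (LinearMap.congr_fun hc e).symm.trans ?_
    rw [LinearMap.coe_sum, Finset.sum_apply, Finset.smul_sum]
    refine Finset.sum_congr rfl fun i _ => ?_
    rw [LinearMap.smul_apply, ← stalkMap_lift_proj, he, map_smul, smul_comm]
  refine ⟨e', stalk_ext x fun j => ?_⟩
  apply co.injective
  refine mul_left_cancel₀ ha ?_
  rw [← smul_eq_mul, ← smul_eq_mul, ← map_smul, ← map_smul, ← map_smul, ← map_smul, he, map_smul (RefHull.stalkMapₗ (proj j) x)]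

include hN hφ in
/-- A free stalk is a direct summand. -/
theorem exists_retraction (x : X) [Module.Free (X.presheaf.stalk x) (E.presheaf.stalk x)]
    [Module.Finite (X.presheaf.stalk x) (E.presheaf.stalk x)] :
    ∃ ρ : (∐ fun _ : Fin r => N).presheaf.stalk x →ₗ[X.presheaf.stalk x] E.presheaf.stalk x,
      ρ ∘ₗ RefHull.stalkMapₗ (lift φ) x = LinearMap.id := by
  obtain ⟨co⟩ := exists_coord hN x
  let bE := Module.Free.chooseBasis (X.presheaf.stalk x) (E.presheaf.stalk x)
  choose c hc using fun k => (Submodule.mem_span_range_iff_exists_fun _).1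
    (hφ x (co.symm.toLinearMap ∘ₗ bE.coord k))
  refine ⟨∑ k, (co.toLinearMap ∘ₗ ∑ i, c k i • RefHull.stalkMapₗ (proj i) x).smulRight (bE k),
    LinearMap.ext fun e => ?_⟩
  rw [LinearMap.comp_apply, LinearMap.coe_sum, Finset.sum_apply, LinearMap.id_apply]
  conv_rhs => rw [← bE.sum_repr e]
  refine Finset.sum_congr rfl fun k _ => ?_
  rw [LinearMap.smulRight_apply, LinearMap.comp_apply]
  congr 1
  apply co.symm.injective
  refine (co.symm_apply_apply _).trans ?_
  refine Eq.trans ?_ (LinearMap.congr_fun (hc k) e)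
  rw [LinearMap.coe_sum, Finset.sum_apply, LinearMap.coe_sum, Finset.sum_apply]
  exact Finset.sum_congr rfl fun i _ => by rw [LinearMap.smul_apply, LinearMap.smul_apply, stalkMap_lift_proj]

end Groth.Agent.ReflEmbed

namespace Groth.Agent.ReflEmbed

variable {X : Scheme.{u}} {E : X.Modules}

/-- The stalk of a cokernel. -/
theorem exists_stalk_cokernel {A B : X.Modules} (ι : A ⟶ B) (x : X) :
    Function.Surjective (RefHull.stalkMapₗ (cokernel.π ι) x) ∧
      Function.Exact (RefHull.stalkMapₗ ι x) (RefHull.stalkMapₗ (cokernel.π ι) x) := by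
  let S : ShortComplex X.Modules := ShortComplex.mk ι (cokernel.π ι) (cokernel.condition ι)
  have hexact := (ShortComplex.ShortExact.moduleCat_exact_iff_function_exact _).1
    ((show S.Exact from ShortComplex.exact_cokernel ι).map (DerSch.stalkFunctor X x))
  have hq : Function.Surjective ((DerSch.stalkFunctor X x).map (cokernel.π ι)) :=
    (ModuleCat.epi_iff_surjective _).1 inferInstance
  have e1 : ⇑(RefHull.stalkMapₗ ι x) = ⇑((DerSch.stalkFunctor X x).map ι).hom := funext (stalkMapₗ_eq ι x)
  have e2 : ⇑(RefHull.stalkMapₗ (cokernel.π ι) x) = ⇑((DerSch.stalkFunctor X x).map (cokernel.π ι)).hom :=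
    funext (stalkMapₗ_eq _ x)
  rw [e1, e2]
  exact ⟨hq, hexact⟩

/-- A reflexive coherent module sits in a sum of twists with torsion free cokernel, a submodule of such a sum. -/
theorem exists_twist_embedding [IsIntegral X] [IsLocallyNoetherian X] {L : X.Modules} (hL : CohB1.IsAmple L)
    (hE : Coh.IsCoh E) (hEr : ∀ x : X, Module.IsReflexive (X.presheaf.stalk x) (E.presheaf.stalk x)) :
    ∃ (q r q' r' : ℕ) (E' : X.Modules) (ι : E ⟶ ∐ fun _ : Fin r => CohB1.tensorPow L q)
      (π : (∐ fun _ : Fin r => CohB1.tensorPow L q) ⟶ E') (w : ι ≫ π = 0)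
      (ι' : E' ⟶ ∐ fun _ : Fin r' => CohB1.tensorPow L q'),
      1 ≤ r ∧ 1 ≤ r' ∧ (ShortComplex.mk ι π w).ShortExact ∧ Mono ι' ∧ Coh.IsCoh E' ∧
        (FlatMod.IsFinLocFree E → FlatMod.IsFinLocFree E') := by
  classical
  obtain ⟨q, r, φ, hr, hφ⟩ := exists_maps hL hE
  have hN := isInvertible_tensorPow hL.1 q
  have hinj : ∀ x, Function.Injective (RefHull.stalkMapₗ (lift φ) x) := fun x => by
    haveI := hEr x
    exact injective_lift φ hN hφ hE x
  haveI := mono_lift φ hinj
  let E' := cokernel (lift φ)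
  have hP : Coh.IsCoh (∐ fun _ : Fin r => CohB1.tensorPow L q) :=
    CycLib28.K0.isCoh_sigmaFin _ fun _ => PicLib.isCoh_of_isInvertible hN
  have hE' : Coh.IsCoh E' := Coherent.isCoh_cokernel (lift φ) hE.1 hP
  haveI : ∀ x, Module.IsTorsionFree (X.presheaf.stalk x) (E'.presheaf.stalk x) := fun x => by
    haveI := hEr x
    obtain ⟨hsurj, hex⟩ := exists_stalk_cokernel (lift φ) x
    refine Module.isTorsionFree_iff_smul_eq_zero.2 fun a w haw => ?_
    obtain ⟨v, rfl⟩ := hsurj w
    by_cases ha : a = 0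
    · exact Or.inl ha
    right
    rw [← map_smul] at haw
    obtain ⟨e, he⟩ := (hex (a • v)).1 haw
    obtain ⟨e', he'⟩ := mem_range_of_smul φ hN hφ hE x ha (v := v) ⟨e, he⟩
    exact (hex v).2 ⟨e', he'⟩
  obtain ⟨q', r', φ', hr', hφ'⟩ := exists_maps hL hE'
  have hN' := isInvertible_tensorPow hL.1 q'
  refine ⟨q, r, q', r', E', lift φ, cokernel.π (lift φ), cokernel.condition _, lift φ', hr, hr', ?_,
    mono_lift φ' (fun x => injective_lift φ' hN' hφ' hE' x), hE', fun hfree => ?_⟩
  · exact ShortComplex.ShortExact.mk (ShortComplex.exact_cokernel _)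
  · haveI : CompactSpace X := (isAmple_iff_affGlocus.1 hL).2.1
    haveI : Coh.IsQCoh E' := hE'.1
    refine SerreDual.isFinLocFree_of_free_closed_stalks E' (Coherent.isFP_of_isCoh hE') fun x _ => ?_
    obtain ⟨U, n, e, hxU, he⟩ := exists_isBasisOn hfree x
    obtain ⟨bE, -⟩ := Clifford24.exists_basis_germ he hxU
    haveI : Module.Free (X.presheaf.stalk x) (E.presheaf.stalk x) := .of_basis bE
    haveI := AssSch12.finite_stalk hE x
    haveI := AssSch12.finite_stalk hE' x
    haveI := AssSch12.finite_stalk hP x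
    obtain ⟨ρ, hρ⟩ := exists_retraction φ hN hφ x
    obtain ⟨hsurj, hex⟩ := exists_stalk_cokernel (lift φ) x
    obtain ⟨co⟩ := exists_coord hN x
    let P := (∐ fun _ : Fin r => CohB1.tensorPow L q).presheaf.stalk x
    let toPi : P →ₗ[X.presheaf.stalk x] (Fin r → X.presheaf.stalk x) :=
      LinearMap.pi fun j => co.toLinearMap ∘ₗ RefHull.stalkMapₗ (proj j) x
    let ofPi : (Fin r → X.presheaf.stalk x) →ₗ[X.presheaf.stalk x] P :=
      ∑ j, RefHull.stalkMapₗ (Sigma.ι (fun _ : Fin r => CohB1.tensorPow L q) j) x ∘ₗ co.symm.toLinearMap ∘ₗ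
        LinearMap.proj j
    haveI : Module.Projective (X.presheaf.stalk x) P := by
      refine Module.Projective.of_split toPi ofPi (LinearMap.ext fun v => ?_)
      rw [LinearMap.comp_apply, LinearMap.id_apply, LinearMap.coe_sum, Finset.sum_apply]
      refine Eq.trans (Finset.sum_congr rfl fun j _ => ?_) (stalk_eq_sum x v).symm
      simp [toPi]; rfl
    let ιx := RefHull.stalkMapₗ (lift φ) x
    let πx := RefHull.stalkMapₗ (cokernel.π (lift φ)) x
    have hker : LinearMap.ker πx ≤ LinearMap.ker (LinearMap.id - ιx ∘ₗ ρ) := by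
      intro v hv
      obtain ⟨e', rfl⟩ := (hex v).1 hv
      rw [LinearMap.mem_ker, LinearMap.sub_apply, LinearMap.comp_apply, LinearMap.id_apply, sub_eq_zero]
      exact congrArg ιx (LinearMap.congr_fun hρ e').symm
    let sec : E'.presheaf.stalk x →ₗ[X.presheaf.stalk x] P :=
      (LinearMap.ker πx).liftQ (LinearMap.id - ιx ∘ₗ ρ) hker ∘ₗ
        (πx.quotKerEquivOfSurjective hsurj).symm.toLinearMap
    haveI : Module.Projective (X.presheaf.stalk x) (E'.presheaf.stalk x) := by
      refine Module.Projective.of_split sec πx (LinearMap.ext fun w => ?_)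
      obtain ⟨v, rfl⟩ := hsurj w
      rw [LinearMap.comp_apply, LinearMap.id_apply, LinearMap.comp_apply,
        LinearEquiv.coe_toLinearMap, LinearMap.quotKerEquivOfSurjective_symm_apply, Submodule.liftQ_apply,
        LinearMap.sub_apply, LinearMap.id_apply, map_sub, LinearMap.comp_apply]
      rw [(hex _).2 ⟨ρ v, rfl⟩, sub_zero]
    exact Module.free_of_flat_of_isLocalRing

end Groth.Agent.ReflEmbed
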