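import Groth.Agent.TFPush7.MonoTwist
import Groth.Agent.RefHullLib.Reflexive
import Groth.Agent.RefHullLib.Eval
import Groth.Agent.Props12.FinLocFree
import Groth.Agent.AmpleLib.Ample
import Mathlib

/-!
# Morphisms to a power of an ample module generating all forms on stalks
-/

set_option autoImplicit false
set_option linter.style.haveILetI false
set_option backward.isDefEq.respectTransparency false
set_option backward.isDefEq.respectTransparency.types false
set_option maxHeartbeats 1000000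

universe u

open CategoryTheory CategoryTheory.Limits AlgebraicGeometry Opposite TopologicalSpace
open Groth.Agent.Coherent Groth.Agent.PicLib Groth.Agent.AmpleLib

namespace Groth.Agent.ReflEmbed

variable {X : Scheme.{u}} [IsLocallyNoetherian X]

/-- Finitely many morphisms into a power of an ample module generate all forms on every stalk. -/
theorem exists_maps {L : X.Modules} (hL : CohB1.IsAmple L) {F : X.Modules} (hF : Coh.IsCoh F) :
    ∃ (q r : ℕ) (φ : Fin r → (F ⟶ CohB1.tensorPow L q)), 1 ≤ r ∧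
      ∀ (x : X) (ξ : F.presheaf.stalk x →ₗ[X.presheaf.stalk x] (CohB1.tensorPow L q).presheaf.stalk x),
        ξ ∈ Submodule.span (X.presheaf.stalk x) (Set.range fun i => RefHull.stalkMapₗ (φ i) x) := by
  classical
  obtain ⟨hLi, hc, hx⟩ := isAmple_iff_affGlocus.1 hL
  haveI := quasiSeparatedSpace_of_affGlocus hLi hx
  choose m hm b hxb hle hb using hx
  obtain ⟨t, ht⟩ := isCompact_univ.elim_finite_subcover (fun x => (glocus _ (b x) : Set X))
    (fun x => (glocus _ (b x)).2) fun x _ => Set.mem_iUnion.2 ⟨x, hxb x⟩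
  let M := ∏ x ∈ t, m x
  have hdvd : ∀ x : t, ∃ k, 0 < k ∧ m x.1 * k = M := fun x =>
    ⟨∏ y ∈ t.erase x.1, m y, Finset.prod_pos fun y _ => hm y, Finset.mul_prod_erase t m x.2⟩
  choose k hk hkM using hdvd
  have hb' : ∀ x : t, ∃ b' : Γ(CohB1.tensorPow L M, ⊤), glocus _ b' = glocus _ (b x.1) := fun x => by
    rw [← hkM x]
    exact exists_glocus_pow hLi _ _ _ (hk x)
  choose c hc' using hb'
  have hA : ∀ x : t, IsAffineOpen (glocus _ (c x)) := fun x => by rw [hc']; exact hb x.1
  have hcov : ∀ y : X, ∃ x : t, y ∈ glocus _ (c x) := fun y => by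
    obtain ⟨x, hxt, hy⟩ := Set.mem_iUnion₂.1 (ht (Set.mem_univ y))
    refine ⟨⟨x, hxt⟩, ?_⟩
    rw [hc']
    exact hy
  have hP := isInvertible_tensorPow hLi M
  have hDc := RefHullLib.isCoh_dual hF (Coherent.isCoh_structureModule X)
  haveI := hDc.1
  obtain ⟨-, hfin⟩ := (isCoh_iff_finite_sections (RefHull.dual F)).1 hDc
  choose r θ hθ using fun x : t => (hfin _ (hA x)).exists_fin
  choose n hn using fun p : (Σ x : t, Fin (r x)) => TFPush7.exists_hom_twist hF hP (c p.1) (θ p.1 p.2)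
  let N := Finset.univ.sup n
  have hmaps : ∀ p : (Σ x : t, Fin (r x)), ∃ φ : F ⟶ CohB1.tensorPow (CohB1.tensorPow L M) N,
      ∀ (y : X) (hy : y ∈ glocus _ (c p.1)), ∃ γ : (CohB1.tensorPow (CohB1.tensorPow L M) N).presheaf.stalk y,
        Function.Bijective (fun a : X.presheaf.stalk y => a • γ) ∧
          ∀ v, RefHull.stalkMapₗ φ y v = TFPush7.ringVal y ((θ p.1 p.2).1 ⟨y, hy⟩ v) • γ := by
    intro p
    obtain ⟨k', hk'⟩ : ∃ k', n p + k' = N := ⟨N - n p, Nat.add_sub_cancel' (Finset.le_sup (Finset.mem_univ p))⟩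
    obtain ⟨φ, hφ⟩ := hn p k'
    exact hk' ▸ ⟨φ, hφ⟩
  choose φ hφ using hmaps
  obtain ⟨e, -⟩ := exists_powPowIso hLi M N
  let R := Fintype.card (Σ x : t, Fin (r x))
  let idx := Fintype.equivFin (Σ x : t, Fin (r x))
  refine ⟨M * N, R + 1, fun i => if h : i.1 < R then φ (idx.symm ⟨i.1, h⟩) ≫ e.hom else 0, Nat.le_add_left _ _,
    fun y ξ => ?_⟩
  obtain ⟨x, hy⟩ := hcov y
  let E : (CohB1.tensorPow (CohB1.tensorPow L M) N).presheaf.stalk y ≃ₗ[X.presheaf.stalk y]
      (CohB1.tensorPow L (M * N)).presheaf.stalk y := ((DerSch.stalkFunctor X y).mapIso e).toLinearEquiv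
  have hmem : ∀ p, E.toLinearMap ∘ₗ RefHull.stalkMapₗ (φ p) y ∈ Submodule.span (X.presheaf.stalk y)
      (Set.range fun i : Fin (R + 1) =>
        RefHull.stalkMapₗ (if h : i.1 < R then φ (idx.symm ⟨i.1, h⟩) ≫ e.hom else 0) y) := fun p => by
    refine Submodule.subset_span ⟨⟨(idx p).1, (idx p).2.trans (Nat.lt_succ_self _)⟩, ?_⟩
    dsimp only
    rw [dif_pos (idx p).2]
    refine LinearMap.ext fun v => ?_
    show RefHull.stalkMapₗ (φ (idx.symm (idx p)) ≫ e.hom) y v = _
    rw [idx.symm_apply_apply]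
    obtain ⟨U, hU, s, rfl⟩ := F.presheaf.exists_germ_eq v
    rw [RefHull.stalkMapₗ_germ, LinearMap.comp_apply, RefHull.stalkMapₗ_germ]
    exact (DerSch.stalkFunctor_map_germ y e.hom U hU _).symm
  -- pull the form back along the comparison of powers
  let ξ' := E.symm.toLinearMap ∘ₗ ξ
  suffices h : ξ' ∈ Submodule.span (X.presheaf.stalk y) (Set.range fun p => RefHull.stalkMapₗ (φ p) y) by
    have h2 := Submodule.apply_mem_span_image_of_mem_span
      (LinearMap.llcomp (X.presheaf.stalk y) (F.presheaf.stalk y) _ _ E.toLinearMap) h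
    have hξ : E.toLinearMap ∘ₗ ξ' = ξ := LinearMap.ext fun v => E.apply_symm_apply _
    rw [← hξ]
    refine (Submodule.span_le.2 ?_) h2
    rintro _ ⟨_, ⟨p, rfl⟩, rfl⟩
    exact hmem p
  obtain ⟨γ, hγ⟩ : ∃ γ : (CohB1.tensorPow (CohB1.tensorPow L M) N).presheaf.stalk y,
      Function.Bijective (fun a : X.presheaf.stalk y => a • γ) := by
    obtain ⟨U, hyU, g, hg⟩ := exists_isGen (isInvertible_tensorPow hP N) y
    exact ⟨_, TFPush7.bijective_smul_germ hg hyU⟩
  let coord := (LinearEquiv.ofBijective (LinearMap.toSpanSingleton (X.presheaf.stalk y) _ γ) hγ).symm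
  let η : RefHull.StalkHom F (Coh.structureModule X) y :=
    (SDiv28.unitStalkEquiv y).toLinearMap ∘ₗ coord.toLinearMap ∘ₗ ξ'
  obtain ⟨w, hw⟩ := (RefHullLib.evalStalk_bijective_of_isCoh (G := Coh.structureModule X) hF y).2 η
  have hspan := Props12.span_germ_eq_top (RefHull.dual F) (hA x) (hθ x).ge hy (trivial : w ∈ ⊤)
  obtain ⟨a, ha⟩ := (Submodule.mem_span_range_iff_exists_fun _).1 hspan
  have hη : η = ∑ i, a i • (θ x i).1 ⟨y, hy⟩ := by
    rw [← hw, ← ha, map_sum]
    exact Finset.sum_congr rfl fun i _ => by rw [map_smul, RefHull.evalStalk_germ]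
  choose δ hδ hval using fun i : Fin (r x) => hφ ⟨x, i⟩ y hy
  choose u hu using fun i => (hδ i).2 γ
  have hu' : ∀ i, ∃ d : X.presheaf.stalk y, γ = d • δ i := fun i => by
    obtain ⟨d, hd⟩ := (hδ i).2 γ
    exact ⟨d, hd.symm⟩
  choose d hd using hu'
  have key : ξ' = ∑ i, (a i * d i) • RefHull.stalkMapₗ (φ ⟨x, i⟩) y := by
    refine LinearMap.ext fun v => ?_
    have h1 : ξ' v = TFPush7.ringVal y (η v) • γ := by
      have h2 : TFPush7.ringVal y (η v) = coord (ξ' v) := (SDiv28.unitStalkEquiv y).symm_apply_apply _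
      rw [h2]
      exact (coord.symm_apply_apply (ξ' v)).symm
    rw [h1, hη]
    simp only [LinearMap.coe_sum, Finset.sum_apply, map_sum, Finset.sum_smul]
    refine Finset.sum_congr rfl fun i _ => ?_
    rw [LinearMap.smul_apply, map_smul, LinearMap.smul_apply, hval, smul_eq_mul, hd i, smul_smul, smul_smul]
    congr 1
    ring
  rw [key]
  exact Submodule.sum_mem _ fun i _ => Submodule.smul_mem _ _ (Submodule.subset_span ⟨⟨x, i⟩, rfl⟩)

end Groth.Agent.ReflEmbed
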